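import Groth.Agent.EtFound.TopInvGlue
import Mathlib.RingTheory.Unramified.LocalStructure
import Mathlib.AlgebraicGeometry.Morphisms.Etale
import Mathlib.FieldTheory.IsAlgClosed.AlgebraicClosure

/-!
# Étale schemes have, Zariski locally, bounded geometric fibres
-/

set_option autoImplicit false
set_option backward.isDefEq.respectTransparency false
set_option backward.isDefEq.respectTransparency.types false

universe u

open CategoryTheory CategoryTheory.Limits AlgebraicGeometry Polynomial

namespace Groth.Agent.EtTopInvFull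

/-- The geometric fibres of `U` have at most `n` points. -/
def Bound {Z : Scheme.{u}} (U : Z.Etale) (n : ℕ) : Prop :=
  ∀ (Ω : Type u) [Field Ω] [IsAlgClosed Ω] (η : Spec (CommRingCat.of Ω) ⟶ Z),
    Finite {t : Spec (CommRingCat.of Ω) ⟶ U.left // t ≫ U.hom = η} ∧
      Nat.card {t : Spec (CommRingCat.of Ω) ⟶ U.left // t ≫ U.hom = η} ≤ n

/-- Every point has an affine neighbourhood with bounded geometric fibres. -/
theorem exists_bounded_nhd {Z : Scheme.{u}} [IsAffine Z] (U : Z.Etale) (u : U.left) :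
    ∃ (O : U.left.Opens) (_ : IsAffineOpen O) (n : ℕ), u ∈ O ∧
      ∀ (h : AlgebraicGeometry.Etale (O.ι ≫ U.hom)), Bound (Scheme.Etale.mk (O.ι ≫ U.hom)) n := by
  have hU : AlgebraicGeometry.Etale U.hom := U.prop
  obtain ⟨C0, w, hw, ⟨c, hc⟩, -⟩ := Scheme.exists_affine_mem_range_and_range_subset
    (x := u) (U := (⊤ : U.left.Opens)) (by simp)
  obtain ⟨φ, hφ⟩ := Spec.map_surjective (w ≫ U.hom ≫ Z.isoSpec.hom)
  algebraize [φ.hom]
  have : Algebra.Etale Γ(Z, ⊤) C0 := by
    have h : AlgebraicGeometry.Etale (Spec.map φ) := by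
      rw [hφ]; infer_instance
    exact RingHom.etale_algebraMap.1 ((HasRingHomProperty.Spec_iff (P := @AlgebraicGeometry.Etale)).mp h)
  obtain ⟨g, hgc, hC⟩ := Algebra.IsEtaleAt.exists_isStandardEtale (R := Γ(Z, ⊤)) c.asIdeal
  let L : CommRingCat.{u} := CommRingCat.of (Localization.Away g)
  let loc : C0 ⟶ L := CommRingCat.ofHom (algebraMap C0 (Localization.Away g))
  let o : Spec L ⟶ U.left := Spec.map loc ≫ w
  have ho : IsOpenImmersion o := by
    have h1 : IsOpenImmersion (Spec.map loc) := IsOpenImmersion.of_isLocalization g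
    infer_instance
  obtain ⟨Q⟩ : Nonempty (StandardEtalePresentation Γ(Z, ⊤) (Localization.Away g)) := inferInstance
  refine ⟨o.opensRange, isAffineOpen_opensRange o, Q.f.natDegree, ?_, fun h Ω _ _ η => ?_⟩
  · obtain ⟨l, hl⟩ := (PrimeSpectrum.localization_away_comap_range (Localization.Away g) g).ge hgc
    refine ⟨l, ?_⟩
    show (Spec.map loc ≫ w).base l = u
    rw [Scheme.Hom.comp_apply]
    exact (congrArg w.base (show (Spec.map loc).base l = c from hl)).trans hc
  obtain ⟨e, he⟩ := Spec.map_surjective (η ≫ Z.isoSpec.hom)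
  let key : {t : Spec (CommRingCat.of Ω) ⟶ (o.opensRange : Scheme.{u}) //
      t ≫ o.opensRange.ι ≫ U.hom = η} → Ω :=
    fun t => (Spec.preimage (t.1 ≫ o.isoOpensRange.inv)).hom Q.x
  have hcomp : ∀ t : {t : Spec (CommRingCat.of Ω) ⟶ (o.opensRange : Scheme.{u}) //
      t ≫ o.opensRange.ι ≫ U.hom = η}, φ ≫ loc ≫ Spec.preimage (t.1 ≫ o.isoOpensRange.inv) = e := by
    intro t
    refine Spec.map_injective ?_
    rw [Spec.map_comp, Spec.map_comp, Spec.map_preimage, he, hφ]
    have : o.isoOpensRange.inv ≫ o = o.opensRange.ι := by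
      rw [Iso.inv_comp_eq, Scheme.Hom.isoOpensRange_hom_ι]
    refine Eq.trans ?_ (congrArg (· ≫ Z.isoSpec.hom) t.2)
    have h2 : t.1 ≫ o.isoOpensRange.inv ≫ o = t.1 ≫ o.opensRange.ι := congrArg (t.1 ≫ ·) this
    have h3 := congrArg (fun k => k ≫ U.hom ≫ Z.isoSpec.hom) h2
    simp only [o, Category.assoc] at h3 ⊢
    exact h3
  have hroot : ∀ t, (Q.f.map e.hom).IsRoot (key t) := by
    intro t
    rw [Polynomial.IsRoot.def, Polynomial.eval_map, ← hcomp t]
    have h0 : Polynomial.aeval Q.x Q.f = 0 := Q.hasMap.1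
    rw [Polynomial.aeval_def] at h0
    have := congrArg (Spec.preimage (t.1 ≫ o.isoOpensRange.inv)).hom h0
    rw [Polynomial.hom_eval₂, map_zero] at this
    exact this
  have hne : Q.f.map e.hom ≠ 0 := (Q.monic_f.map e.hom).ne_zero
  have hinj : Function.Injective key := by
    intro t t' htt
    refine Subtype.ext ((cancel_mono o.isoOpensRange.inv).1 ?_)
    suffices h : Spec.preimage (t.1 ≫ o.isoOpensRange.inv) = Spec.preimage (t'.1 ≫ o.isoOpensRange.inv) by
      simpa only [Spec.map_preimage] using congrArg Spec.map h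
    let A := RingHom.toAlgebra e.hom
    let ψ : ∀ t, Localization.Away g →ₐ[Γ(Z, ⊤)] Ω := fun t =>
      { (Spec.preimage (t.1 ≫ o.isoOpensRange.inv)).hom with
        commutes' := fun r => congrArg (fun k : Γ(Z, ⊤) ⟶ CommRingCat.of Ω => k.hom r) (hcomp t) }
    refine CommRingCat.hom_ext ?_
    exact congrArg (fun a : Localization.Away g →ₐ[Γ(Z, ⊤)] Ω => a.toRingHom)
      (Q.hom_ext (f₁ := ψ t) (f₂ := ψ t') htt)
  classical
  let inc : {t : Spec (CommRingCat.of Ω) ⟶ (o.opensRange : Scheme.{u}) //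
      t ≫ o.opensRange.ι ≫ U.hom = η} → (Q.f.map e.hom).roots.toFinset := fun t =>
    ⟨key t, Multiset.mem_toFinset.2 ((Polynomial.mem_roots hne).2 (hroot t))⟩
  have hinc : Function.Injective inc := fun a b h => hinj (congrArg Subtype.val h)
  refine ⟨Finite.of_injective inc hinc, (Nat.card_le_card_of_injective inc hinc).trans ?_⟩
  rw [Nat.card_eq_fintype_card, Fintype.card_coe]
  exact ((Multiset.toFinset_card_le _).trans (Polynomial.card_roots' _)).trans Polynomial.natDegree_map_le

end Groth.Agent.EtTopInvFull
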