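import Groth.Agent.EtTopInvFull.Descent
import Groth.Agent.EtTopInvFull.Bound
import Groth.Agent.EtFound.IntegralSplit
import Groth.Agent.DescLib.SepSurj
import Groth.Agent.AlgSpLib.Descends2
import Groth.Agent.AlgSpLib.EtLocalInst

/-!
# Topological invariance of the small étale site

Base change along a universal homeomorphism is an equivalence of the small étale sites: the induction is on
the number of points of the geometric fibres, splitting off a section after an étale covering of the base.
-/

set_option autoImplicit false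
set_option linter.unusedSectionVars false
set_option backward.isDefEq.respectTransparency false
set_option backward.isDefEq.respectTransparency.types false

universe u

open CategoryTheory CategoryTheory.Limits AlgebraicGeometry

namespace Groth.Agent.EtTopInvFull

/-- If `U` has a section after an affine étale covering of the base, the complement of the section has
smaller fibres, and by induction `U` comes from the base. -/
theorem essImage_step (n : ℕ)
    (ih : ∀ {Z S : Scheme.{u}} (f : Z ⟶ S) [IsIntegralHom f] [UniversallyInjective f] [Surjective f]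
      [IsAffine S] (U : Z.Etale) [IsAffine U.left], Bound U n → (EtCoh.bc f).essImage U)
    {Z S : Scheme.{u}} (f : Z ⟶ S) [IsIntegralHom f] [UniversallyInjective f] [Surjective f]
    (U : Z.Etale) [IsAffineHom U.hom] (hb : Bound U (n + 1))
    {V : Scheme.{u}} [IsAffine V] (v : V ⟶ S) [AlgebraicGeometry.Etale v] [Surjective v] [QuasiCompact v]
    (σ : pullback v f ⟶ U.left) (hσ : σ ≫ U.hom = pullback.snd v f) :
    (EtCoh.bc f).essImage U := by
  let a : pullback v f ⟶ Z := pullback.snd v f
  let b : pullback v f ⟶ V := pullback.fst v f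
  have : IsIntegralHom b := MorphismProperty.pullback_fst _ _ inferInstance
  have : UniversallyInjective b := MorphismProperty.pullback_fst (P := @UniversallyInjective) _ _ ‹_›
  have : Surjective b := MorphismProperty.pullback_fst (P := @Surjective) _ _ ‹_›
  have hX : IsAffine (pullback v f) := isAffine_of_isAffineHom b
  let UX := (EtCoh.bc a).obj U
  let q : pullback U.hom a ⟶ pullback v f := pullback.snd U.hom a
  have : IsAffineHom q := MorphismProperty.pullback_snd (P := @IsAffineHom) _ _ inferInstance
  have hqet : AlgebraicGeometry.Etale q := UX.prop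
  have hUX : IsAffine (pullback U.hom a) := isAffine_of_isAffineHom q
  let s : pullback v f ⟶ pullback U.hom a := pullback.lift σ (𝟙 _) (hσ.trans (Category.id_comp _).symm)
  have hs : s ≫ q = 𝟙 _ := pullback.lift_snd _ _ _
  have : IsClosedImmersion s := by
    have : IsClosedImmersion (s ≫ q) := by rw [hs]; infer_instance
    exact IsClosedImmersion.of_comp s q
  have : IsOpenImmersion s := by
    have : AlgebraicGeometry.Etale (s ≫ q) := by rw [hs]; infer_instance
    have : AlgebraicGeometry.Etale s :=
      MorphismProperty.of_postcomp (W := @AlgebraicGeometry.Etale) (W' := @AlgebraicGeometry.Etale) s q hqet this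
    exact IsOpenImmersion.of_flat_of_mono s
  let O : (pullback U.hom a).Opens := ⟨(Set.range s.base)ᶜ, s.isClosedEmbedding.isClosed_range.isOpen_compl⟩
  have hclosed : IsClosed (Set.range O.ι.base) := by
    rw [Scheme.Opens.range_ι]
    exact s.isOpenEmbedding.isOpen_range.isClosed_compl
  have : IsClosedImmersion O.ι := IsClosedImmersion.of_isPreimmersion _ hclosed
  have hO : IsAffine (O : Scheme.{u}) := isAffine_of_isAffineHom O.ι
  let R : (pullback v f).Etale := Scheme.Etale.mk (O.ι ≫ q)
  have : IsAffine R.left := hO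
  have hR : Bound R n := by
    intro Ω _ _ η
    obtain ⟨hfin, hcard⟩ := hb Ω (η ≫ a)
    have htη : ∀ t : {t : Spec (CommRingCat.of Ω) ⟶ R.left // t ≫ R.hom = η},
        (t.1 ≫ O.ι ≫ pullback.fst U.hom a) ≫ U.hom = η ≫ a := fun t => by
      simp only [Category.assoc, pullback.condition]
      exact ((Category.assoc _ _ _).symm.trans (congrArg (· ≫ a) ((Category.assoc _ _ _).symm.trans rfl))).trans
        ((congrArg (· ≫ a) (Category.assoc _ _ _)).trans (congrArg (· ≫ a) t.2))
    let inc : Option {t : Spec (CommRingCat.of Ω) ⟶ R.left // t ≫ R.hom = η} →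
        {t : Spec (CommRingCat.of Ω) ⟶ U.left // t ≫ U.hom = η ≫ a} := fun o => o.elim
      ⟨η ≫ σ, (Category.assoc _ _ _).trans (congrArg (η ≫ ·) hσ)⟩
      fun t => ⟨t.1 ≫ O.ι ≫ pullback.fst U.hom a, htη t⟩
    have hsnd : ∀ t : {t : Spec (CommRingCat.of Ω) ⟶ R.left // t ≫ R.hom = η}, (t.1 ≫ O.ι) ≫ q = η :=
      fun t => (Category.assoc _ _ _).trans t.2
    have hinc : Function.Injective inc := by
      rintro (_ | t) (_ | t') h
      · rfl
      · exfalso
        have h' : t'.1 ≫ O.ι = η ≫ s := pullback.hom_ext
          ((Category.assoc _ _ _).trans ((congrArg Subtype.val h).symm.trans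
            (by simp [s, inc])))
          ((hsnd t').trans (by simp only [s, q, Category.assoc, pullback.lift_snd, Category.comp_id]))
        have hx := congrArg (fun k => k.base (IsLocalRing.closedPoint Ω)) h'
        simp only [Scheme.Hom.comp_apply] at hx
        exact ((t'.1.base _) : ↥O).2 ⟨_, hx.symm⟩
      · exfalso
        have h' : t.1 ≫ O.ι = η ≫ s := pullback.hom_ext
          ((Category.assoc _ _ _).trans ((congrArg Subtype.val h).trans
            (by simp [s, inc])))
          ((hsnd t).trans (by simp only [s, q, Category.assoc, pullback.lift_snd, Category.comp_id]))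
        have hx := congrArg (fun k => k.base (IsLocalRing.closedPoint Ω)) h'
        simp only [Scheme.Hom.comp_apply] at hx
        exact ((t.1.base _) : ↥O).2 ⟨_, hx.symm⟩
      · refine congrArg some (Subtype.ext ((cancel_mono O.ι).1 (pullback.hom_ext ?_ ?_)))
        · simpa [inc] using congrArg Subtype.val h
        · exact (hsnd t).trans (hsnd t').symm
    have := Finite.of_injective inc hinc
    have hfin' : Finite {t : Spec (CommRingCat.of Ω) ⟶ R.left // t ≫ R.hom = η} :=
      Finite.of_injective some (Option.some_injective _)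
    have := Nat.card_le_card_of_injective inc hinc
    rw [Finite.card_option] at this
    exact ⟨hfin', by omega⟩
  obtain ⟨ER, ⟨eR⟩⟩ := ih b R hR
  have hUX' : (EtCoh.bc b).essImage UX := by
    refine EtFound.essImage_of_local b UX fun x => ?_
    by_cases hx : x ∈ Set.range s.base
    · let m : ((EtCoh.bc b).obj (EtCoh.top V)).left ⟶ UX.left := (pullback.snd (𝟙 V) b : _ ⟶ pullback v f) ≫ s
      have hsnd : IsIso (pullback.snd (𝟙 V) b) := inferInstance
      refine ⟨EtCoh.top V, MorphismProperty.Over.homMk m ?_, ?_, ?_⟩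
      · exact (Category.assoc _ _ _).trans ((congrArg (_ ≫ ·) hs).trans (Category.comp_id _))
      · show IsOpenImmersion ((pullback.snd (𝟙 V) b) ≫ s)
        infer_instance
      · obtain ⟨y, rfl⟩ := hx
        obtain ⟨z, rfl⟩ := (pullback.snd (𝟙 V) b).surjective y
        exact ⟨z, Scheme.Hom.comp_apply _ _ z⟩
    · let m : ((EtCoh.bc b).obj ER).left ⟶ UX.left := eR.hom.left ≫ O.ι
      have heR : IsIso eR.hom.left := ⟨eR.inv.left, congrArg (fun k => k.left) eR.hom_inv_id,
        congrArg (fun k => k.left) eR.inv_hom_id⟩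
      refine ⟨ER, MorphismProperty.Over.homMk m ?_, ?_, ?_⟩
      · exact (Category.assoc _ _ _).trans (MorphismProperty.Over.w eR.hom)
      · show IsOpenImmersion (eR.hom.left ≫ O.ι)
        infer_instance
      · exact ⟨eR.inv.left.base ⟨x, hx⟩, by
          refine (Scheme.Hom.comp_apply _ _ _).symm.trans ?_
          show (eR.inv.left ≫ eR.hom.left ≫ O.ι).base _ = x
          rw [← Category.assoc, show eR.inv.left ≫ eR.hom.left = 𝟙 _ from
            congrArg (fun k => k.left) eR.inv_hom_id]
          rfl⟩
  obtain ⟨E, ⟨κ⟩⟩ := hUX'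
  let M : Model f U := ⟨V, v, inferInstance, inferInstance, E, κ⟩
  have hE : AlgebraicGeometry.Etale E.hom := E.prop
  let r : pullback E.hom b ⟶ E.left := pullback.fst E.hom b
  have : IsIntegralHom r := MorphismProperty.pullback_fst _ _ inferInstance
  have : Surjective r := MorphismProperty.pullback_fst (P := @Surjective) _ _ ‹_›
  have hκ : IsIso κ.hom.left := ⟨κ.inv.left, congrArg (fun k => k.left) κ.hom_inv_id,
        congrArg (fun k => k.left) κ.inv_hom_id⟩
  have hsep : IsSeparated (r ≫ E.hom) := by
    rw [show r ≫ E.hom = pullback.snd E.hom b ≫ b from pullback.condition]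
    have : IsSeparated (pullback.snd E.hom b) := by
      rw [show pullback.snd E.hom b = κ.hom.left ≫ q from (MorphismProperty.Over.w κ.hom).symm]
      infer_instance
    infer_instance
  have : IsSeparated E.hom := DescLib.isSeparated_of_comp_surjective r E.hom
  have : CompactSpace UX.left := inferInstanceAs (CompactSpace (pullback U.hom a : Scheme.{u}))
  have hEc : CompactSpace E.left := by
    have : CompactSpace (pullback E.hom b : Scheme.{u}) :=
      (Scheme.homeoOfIso (asIso κ.hom.left)).symm.compactSpace
    exact ⟨by rw [← r.surjective.range_eq]; exact isCompact_range r.continuous⟩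
  have : CompactSpace ((𝟭 Scheme.{u}).obj E.left) := hEc
  have : QuasiSeparatedSpace ((Functor.fromPUnit V).obj E.right) := inferInstanceAs (QuasiSeparatedSpace V)
  have : QuasiCompact E.hom := quasiCompact_of_compactSpace E.hom
  have : LocallyQuasiFinite E.hom := AlgSpLib.locallyQuasiFinite_of_formallyUnramified E.hom
  exact essImage_of_model M (MorLib.IQA.indQA_of_locallyQuasiFinite E.hom)

/-- Étale schemes with bounded fibres over an affine base come from below. -/
theorem essImage_aux : ∀ (n : ℕ) {Z S : Scheme.{u}} (f : Z ⟶ S) [IsIntegralHom f] [UniversallyInjective f]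
    [Surjective f] [IsAffine S] (U : Z.Etale) [IsAffine U.left], Bound U n → (EtCoh.bc f).essImage U := by
  intro n
  induction n with
  | zero =>
    intro Z S f _ _ _ _ U _ hb
    refine EtFound.essImage_of_local f U fun u => False.elim ?_
    let Ω := AlgebraicClosure (U.left.residueField u)
    let t : Spec (CommRingCat.of Ω) ⟶ U.left :=
      Spec.map (CommRingCat.ofHom (algebraMap (U.left.residueField u) Ω)) ≫ U.left.fromSpecResidueField u
    obtain ⟨hfin, hcard⟩ := hb Ω (t ≫ U.hom)
    have : Nonempty {k : Spec (CommRingCat.of Ω) ⟶ U.left // k ≫ U.hom = t ≫ U.hom} := ⟨⟨t, rfl⟩⟩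
    exact absurd hcard (by have := Finite.card_pos (α := {k : Spec (CommRingCat.of Ω) ⟶ U.left // k ≫ U.hom = t ≫ U.hom}); omega)
  | succ n ih =>
    intro Z S f _ _ _ _ U _ hb
    refine EtFound.essImage_of_local f U fun u => ?_
    have hU : AlgebraicGeometry.Etale U.hom := U.prop
    obtain ⟨V₀, v₀, hv₀, z₀, hz₀, h₀, hh₀, ⟨w₀, hw₀⟩⟩ := EtFound.exists_split f U.hom (f.base (U.hom.base u))
      (fun x hx => ⟨u, (f.injective hx).symm⟩) u rfl
    obtain ⟨A, hA, hwA, -⟩ := exists_isAffineOpen_mem_and_subset
      (x := (pullback.snd f v₀).base w₀) (U := (⊤ : V₀.Opens)) trivial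
    have : IsAffine (A : Scheme.{u}) := hA
    have : IsAffine Z := isAffine_of_isAffineHom f
    let S₀ : S.Opens := ⟨Set.range (A.ι ≫ v₀).base, (A.ι ≫ v₀).isOpenMap.isOpen_range⟩
    let v : (A : Scheme.{u}) ⟶ S₀ := IsOpenImmersion.lift S₀.ι (A.ι ≫ v₀) (by simp [S₀])
    have hv : v ≫ S₀.ι = A.ι ≫ v₀ := IsOpenImmersion.lift_fac _ _ _
    have : AlgebraicGeometry.Etale v := MorphismProperty.of_postcomp (W := @AlgebraicGeometry.Etale)
      (W' := @AlgebraicGeometry.Etale) v S₀.ι inferInstance (hv.symm ▸ inferInstance)
    have : Surjective v := ⟨fun o => by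
      obtain ⟨t, ht⟩ := o.2
      exact ⟨t, S₀.ι.isOpenEmbedding.injective
        ((Scheme.Hom.comp_apply _ _ _).symm.trans ((congrArg (fun k => k.base t) hv).trans ht))⟩⟩
    have : QuasiSeparatedSpace (S₀ : Scheme.{u}) := quasiSeparatedSpace_of_quasiSeparated S₀.ι
    have : QuasiCompact v := quasiCompact_of_compactSpace v
    let f₀ : pullback f S₀.ι ⟶ S₀ := pullback.snd f S₀.ι
    have : IsIntegralHom f₀ := MorphismProperty.pullback_snd _ _ inferInstance
    have : UniversallyInjective f₀ := MorphismProperty.pullback_snd (P := @UniversallyInjective) _ _ ‹_›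
    have : Surjective f₀ := MorphismProperty.pullback_snd (P := @Surjective) _ _ ‹_›
    let j : pullback f S₀.ι ⟶ Z := pullback.fst f S₀.ι
    let U₀ : (pullback f S₀.ι).Etale := (EtCoh.bc j).obj U
    have : IsAffine ((𝟭 Scheme.{u}).obj U.left) := ‹IsAffine U.left›
    have : IsAffine ((Functor.fromPUnit Z).obj U.right) := ‹IsAffine Z›
    have : IsAffineHom U.hom := isAffineHom_of_isAffine U.hom
    have hU₀ : IsAffineHom U₀.hom := MorphismProperty.pullback_snd (P := @IsAffineHom) _ _ ‹IsAffineHom U.hom›
    have hb₀ : Bound U₀ (n + 1) := by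
      intro Ω _ _ η
      obtain ⟨hfin, hcard⟩ := hb Ω (η ≫ j)
      let inc : {t : Spec (CommRingCat.of Ω) ⟶ U₀.left // t ≫ U₀.hom = η} →
          {t : Spec (CommRingCat.of Ω) ⟶ U.left // t ≫ U.hom = η ≫ j} := fun t =>
        ⟨t.1 ≫ pullback.fst U.hom j, by
          rw [Category.assoc, pullback.condition, ← Category.assoc]
          exact congrArg (· ≫ j) t.2⟩
      have hinc : Function.Injective inc := fun t t' h =>
        Subtype.ext (pullback.hom_ext (congrArg Subtype.val h) (t.2.trans t'.2.symm))
      exact ⟨Finite.of_injective inc hinc, (Nat.card_le_card_of_injective inc hinc).trans hcard⟩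
    let g : pullback v f₀ ⟶ pullback f v₀ := pullback.lift (pullback.snd v f₀ ≫ j)
      (pullback.fst v f₀ ≫ A.ι) (by
        simp only [Category.assoc, j, pullback.condition, f₀]
        rw [← pullback.condition_assoc, hv])
    let σ : pullback v f₀ ⟶ U₀.left := pullback.lift (g ≫ h₀) (pullback.snd v f₀)
      (by rw [Category.assoc, hh₀, pullback.lift_fst])
    obtain ⟨W', ⟨e⟩⟩ := essImage_step n ih f₀ U₀ hb₀ v σ (pullback.lift_snd _ _ _)
    have hW' : AlgebraicGeometry.Etale W'.hom := W'.prop
    let W : S.Etale := Scheme.Etale.mk (W'.hom ≫ S₀.ι)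
    let d : pullback (W'.hom ≫ S₀.ι) f ⟶ pullback W'.hom f₀ :=
      pullback.lift (pullback.fst _ _)
        (pullback.lift (pullback.snd _ _) (pullback.fst (W'.hom ≫ S₀.ι) f ≫ W'.hom)
          (by rw [← pullback.condition, Category.assoc]))
        (pullback.lift_snd _ _ _).symm
    have : IsIso d := ⟨pullback.lift (pullback.fst W'.hom f₀) (pullback.snd W'.hom f₀ ≫ j)
        (by rw [← Category.assoc, pullback.condition, Category.assoc, Category.assoc]; simp [j, f₀, pullback.condition]),
      by refine pullback.hom_ext ?_ ?_ <;> simp [d, j],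
      by
        refine pullback.hom_ext ?_ ?_
        · simp [d]
        · refine pullback.hom_ext ?_ ?_
          · simp [d, j]
          · simp only [d, Category.assoc, pullback.lift_snd, Category.id_comp, pullback.lift_fst_assoc]
            exact pullback.condition⟩
    have he : IsIso e.hom.left := ⟨e.inv.left, congrArg (fun k => k.left) e.hom_inv_id,
      congrArg (fun k => k.left) e.inv_hom_id⟩
    have hi : IsOpenImmersion (pullback.fst U.hom j) := inferInstance
    let m : ((EtCoh.bc f).obj W).left ⟶ U.left := d ≫ e.hom.left ≫ pullback.fst U.hom j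
    refine ⟨W, MorphismProperty.Over.homMk m ?_, ?_, ?_⟩
    · have h1 : e.hom.left ≫ pullback.snd U.hom j = pullback.snd W'.hom f₀ := MorphismProperty.Over.w e.hom
      show (d ≫ e.hom.left ≫ pullback.fst U.hom j) ≫ U.hom = pullback.snd (W'.hom ≫ S₀.ι) f
      simp only [Category.assoc, pullback.condition]
      rw [reassoc_of% h1]
      simp [d, j]
    · show IsOpenImmersion (d ≫ e.hom.left ≫ pullback.fst U.hom j)
      infer_instance
    · have huS : f.base (U.hom.base u) ∈ S₀ := by
        refine ⟨⟨_, hwA⟩, ?_⟩
        rw [← hw₀]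
        have e1 : U.hom.base (h₀.base w₀) = (pullback.fst f v₀).base w₀ := by
          rw [← Scheme.Hom.comp_apply, hh₀]
          rfl
        have e2 : f.base ((pullback.fst f v₀).base w₀) = v₀.base ((pullback.snd f v₀).base w₀) := by
          rw [← Scheme.Hom.comp_apply, pullback.condition, Scheme.Hom.comp_apply]
        exact (e2.symm.trans (congrArg f.base e1.symm))
      obtain ⟨x, hx, -⟩ := Scheme.Pullback.exists_preimage_pullback (f := f) (g := S₀.ι) (U.hom.base u)
        ⟨f.base (U.hom.base u), huS⟩ rfl
      obtain ⟨y, hy, -⟩ := Scheme.Pullback.exists_preimage_pullback (f := U.hom) (g := j) u x hx.symm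
      obtain ⟨y', hy'⟩ := (asIso (d ≫ e.hom.left)).hom.surjective y
      refine ⟨y', ?_⟩
      show (d ≫ e.hom.left ≫ pullback.fst U.hom j).base y' = u
      rw [← Category.assoc, Scheme.Hom.comp_apply]
      exact (congrArg _ hy').trans hy

/-- Topological invariance: base change along a universal homeomorphism is essentially surjective on the
small étale sites. -/
theorem bc_essSurj {Z S : Scheme.{u}} (f : Z ⟶ S) [IsIntegralHom f] [UniversallyInjective f] [Surjective f] :
    (EtCoh.bc f).EssSurj := by
  refine ⟨fun U => EtFound.essImage_of_local f U fun u => ?_⟩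
  have hU : AlgebraicGeometry.Etale U.hom := U.prop
  obtain ⟨A, hA, huA, -⟩ := exists_isAffineOpen_mem_and_subset
    (x := f.base (U.hom.base u)) (U := (⊤ : S.Opens)) trivial
  have : IsAffine (A : Scheme.{u}) := hA
  let fA : pullback f A.ι ⟶ A := pullback.snd f A.ι
  have : IsIntegralHom fA := MorphismProperty.pullback_snd _ _ inferInstance
  have : UniversallyInjective fA := MorphismProperty.pullback_snd (P := @UniversallyInjective) _ _ ‹_›
  have : Surjective fA := MorphismProperty.pullback_snd (P := @Surjective) _ _ ‹_›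
  have : IsAffine (pullback f A.ι) := isAffine_of_isAffineHom fA
  let j : pullback f A.ι ⟶ Z := pullback.fst f A.ι
  let UA : (pullback f A.ι).Etale := (EtCoh.bc j).obj U
  obtain ⟨x, hx, -⟩ := Scheme.Pullback.exists_preimage_pullback (f := f) (g := A.ι) (U.hom.base u)
    ⟨f.base (U.hom.base u), huA⟩ rfl
  obtain ⟨y, hy, -⟩ := Scheme.Pullback.exists_preimage_pullback (f := U.hom) (g := j) u x hx.symm
  obtain ⟨O, hO, n, hyO, hb⟩ := exists_bounded_nhd UA y
  have hUA : AlgebraicGeometry.Etale UA.hom := UA.prop
  have hOet : AlgebraicGeometry.Etale (O.ι ≫ UA.hom) := inferInstance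
  have : IsAffine (Scheme.Etale.mk (O.ι ≫ UA.hom)).left := hO
  obtain ⟨W', ⟨e⟩⟩ := essImage_aux n fA (Scheme.Etale.mk (O.ι ≫ UA.hom)) (hb hOet)
  have hW' : AlgebraicGeometry.Etale W'.hom := W'.prop
  let W : S.Etale := Scheme.Etale.mk (W'.hom ≫ A.ι)
  let d : pullback (W'.hom ≫ A.ι) f ⟶ pullback W'.hom fA :=
    pullback.lift (pullback.fst _ _)
      (pullback.lift (pullback.snd _ _) (pullback.fst (W'.hom ≫ A.ι) f ≫ W'.hom)
        (by rw [← pullback.condition, Category.assoc]))
      (pullback.lift_snd _ _ _).symm
  have : IsIso d := ⟨pullback.lift (pullback.fst W'.hom fA) (pullback.snd W'.hom fA ≫ j)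
      (by rw [← Category.assoc, pullback.condition, Category.assoc, Category.assoc]; simp [j, fA, pullback.condition]),
    by refine pullback.hom_ext ?_ ?_ <;> simp [d, j],
    by
      refine pullback.hom_ext ?_ ?_
      · simp [d]
      · refine pullback.hom_ext ?_ ?_
        · simp [d, j]
        · simp only [d, Category.assoc, pullback.lift_snd, Category.id_comp, pullback.lift_fst_assoc]
          exact pullback.condition⟩
  have he : IsIso e.hom.left := ⟨e.inv.left, congrArg (fun k => k.left) e.hom_inv_id,
    congrArg (fun k => k.left) e.inv_hom_id⟩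
  let m : ((EtCoh.bc f).obj W).left ⟶ U.left := d ≫ e.hom.left ≫ O.ι ≫ pullback.fst U.hom j
  refine ⟨W, MorphismProperty.Over.homMk m ?_, ?_, ?_⟩
  · have h1 : e.hom.left ≫ O.ι ≫ pullback.snd U.hom j = pullback.snd W'.hom fA := MorphismProperty.Over.w e.hom
    show (d ≫ e.hom.left ≫ O.ι ≫ pullback.fst U.hom j) ≫ U.hom = pullback.snd (W'.hom ≫ A.ι) f
    simp only [Category.assoc, pullback.condition]
    rw [reassoc_of% h1]
    simp [d, j]
  · show IsOpenImmersion (d ≫ e.hom.left ≫ O.ι ≫ pullback.fst U.hom j)
    infer_instance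
  · obtain ⟨y', hy'⟩ := (asIso (d ≫ e.hom.left)).hom.surjective ⟨y, hyO⟩
    refine ⟨y', ?_⟩
    show (d ≫ e.hom.left ≫ O.ι ≫ pullback.fst U.hom j).base y' = u
    rw [← Category.assoc, Scheme.Hom.comp_apply, Scheme.Hom.comp_apply]
    exact (congrArg (fun o => (pullback.fst U.hom j).base (O.ι.base o)) hy').trans hy

end Groth.Agent.EtTopInvFull
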