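import Groth.Agent.EtFound.TopInv
import Groth.Agent.EtFound.TopInvGlue
import Groth.Agent.EtFound.Descent
import Groth.Agent.DescLib.Canonical
import Groth.Agent.DescLib.IndQAEff
import Groth.Agent.MorLib.IndQA
import Mathlib.AlgebraicGeometry.Sites.Fpqc
import Mathlib.AlgebraicGeometry.Morphisms.Etale

/-!
# Topological invariance of the small étale site: descent along an étale covering of the base
-/

set_option autoImplicit false
set_option linter.style.haveILetI false
set_option linter.unusedSectionVars false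
set_option linter.unreachableTactic false
set_option linter.unusedTactic false

universe u

open CategoryTheory CategoryTheory.Limits AlgebraicGeometry TopologicalSpace

noncomputable section

set_option backward.isDefEq.respectTransparency false
set_option backward.isDefEq.respectTransparency.types false

namespace Groth.Agent.EtTopInvFull

/-- Points of an étale scheme do not see universal homeomorphisms. -/
theorem lifts_bijective {S S' E B : Scheme.{u}} (g : S' ⟶ S) [IsIntegralHom g] [UniversallyInjective g]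
    [Surjective g] (h : E ⟶ B) [Etale h] (x : S ⟶ B) :
    Function.Bijective (fun v : {v : S ⟶ E // v ≫ h = x} =>
      (⟨g ≫ v.1, by rw [Category.assoc, v.2]⟩ : {u : S' ⟶ E // u ≫ h = g ≫ x})) := by
  let P : CategoryTheory.Over S := CategoryTheory.Over.mk (pullback.snd h x)
  let O : CategoryTheory.Over S := CategoryTheory.Over.mk (𝟙 S)
  haveI : Etale P.hom := MorphismProperty.pullback_snd (P := @Etale) h x ‹_›
  constructor
  · intro v v' e
    have e' : g ≫ v.1 = g ≫ v'.1 := congrArg Subtype.val e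
    let φ : ∀ v : {v : S ⟶ E // v ≫ h = x}, O ⟶ P := fun v => CategoryTheory.Over.homMk
      (pullback.lift v.1 (𝟙 S) (v.2.trans (Category.id_comp x).symm)) (pullback.lift_snd _ _ _)
    have hφ : φ v = φ v' := EtFound.injective_pullback_map g P O (by
      refine CategoryTheory.Over.OverMorphism.ext (pullback.hom_ext ?_ ?_)
      · simp only [CategoryTheory.Over.pullback_map_left, pullback.lift_fst]
        refine pullback.hom_ext ?_ ?_
        · have hc : pullback.fst O.hom g = pullback.snd O.hom g ≫ g :=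
            (Category.comp_id _).symm.trans pullback.condition
          simp only [φ, Category.assoc]
          rw [show pullback.fst O.hom g = pullback.snd O.hom g ≫ g from hc]
          simp [e']
        · simp [φ]
      · simp only [CategoryTheory.Over.pullback_map_left, pullback.lift_snd])
    exact Subtype.ext ((pullback.lift_fst _ _ _).symm.trans
      ((congrArg (fun k => k.left ≫ pullback.fst h x) hφ).trans (pullback.lift_fst _ _ _)))
  · rintro ⟨u, hu⟩
    let ψ : (CategoryTheory.Over.pullback g).obj O ⟶ (CategoryTheory.Over.pullback g).obj P :=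
      CategoryTheory.Over.homMk (pullback.lift (pullback.lift (pullback.snd (𝟙 S) g ≫ u) (pullback.snd (𝟙 S) g ≫ g)
        (by rw [Category.assoc, hu, Category.assoc])) (pullback.snd (𝟙 S) g) (pullback.lift_snd _ _ _))
        (pullback.lift_snd _ _ _)
    obtain ⟨φ, hφ⟩ := EtFound.surjective_pullback_map g P O ψ
    refine ⟨⟨φ.left ≫ pullback.fst h x, ?_⟩, ?_⟩
    · rw [Category.assoc, pullback.condition, ← Category.assoc]
      exact (congrArg (· ≫ x) (CategoryTheory.Over.w φ)).trans (Category.id_comp x)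
    · refine Subtype.ext ?_
      let j : S' ⟶ pullback (𝟙 S) g := pullback.lift g (𝟙 S') ((Category.comp_id g).trans (Category.id_comp g).symm)
      have h1 := congrArg (fun k => j ≫ k.left ≫ pullback.fst P.hom g ≫ pullback.fst h x) hφ
      simp only [CategoryTheory.Over.pullback_map_left, ψ, CategoryTheory.Over.homMk_left] at h1
      show g ≫ φ.left ≫ pullback.fst h x = u
      have e1 : j ≫ pullback.fst (𝟙 S) g = g := pullback.lift_fst _ _ _
      have e2 : j ≫ pullback.snd (𝟙 S) g = 𝟙 S' := pullback.lift_snd _ _ _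
      simp only [pullback.lift_fst_assoc, pullback.lift_fst, Category.assoc] at h1
      exact ((congrArg (fun k => k ≫ φ.left ≫ pullback.fst h x) e1).symm.trans (Category.assoc _ _ _)).trans
        (h1.trans ((Category.assoc _ _ _).symm.trans ((congrArg (· ≫ u) e2).trans (Category.id_comp u))))

theorem ofArrows_mem {S : Scheme.{u}} {ι : Type u} {Z : ι → Scheme.{u}} (g : ∀ i, Z i ⟶ S) (hg : ∀ i, Etale (g i))
    (hs : ∀ s : S, ∃ i z, (g i).base z = s) : Presieve.ofArrows Z g ∈ Scheme.fpqcPrecoverage S := by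
  refine Scheme.fppfPrecoverage_le_fpqcPrecoverage _ ?_
  rw [Scheme.fppfPrecoverage, Scheme.ofArrows_mem_precoverage_iff]
  exact ⟨hs, fun i => by haveI := hg i; exact ⟨inferInstance, inferInstance⟩⟩


/-- `v : V ⟶ S` is an étale covering and `U`, restricted to `V ×_S Z`, comes from `E` over `V`. -/
structure Model {Z S : Scheme.{u}} (f : Z ⟶ S) (U : Z.Etale) where
  V : Scheme.{u}
  v : V ⟶ S
  hv : AlgebraicGeometry.Etale v
  hsurj : Surjective v
  E : V.Etale
  κ : (EtCoh.bc (pullback.fst v f)).obj E ≅ (EtCoh.bc (pullback.snd v f)).obj U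

variable {Z S : Scheme.{u}} {f : Z ⟶ S} [IsIntegralHom f] [UniversallyInjective f] [Surjective f] {U : Z.Etale}

/-- The lifts to `U` over a scheme over `S`. -/
abbrev Sec (f : Z ⟶ S) (U : Z.Etale) {T : Scheme.{u}} (s : T ⟶ S) : Type u :=
  {w : pullback s f ⟶ U.left // w ≫ U.hom = pullback.snd s f}

variable (M : Model f U)

abbrev Model.X : Scheme.{u} := pullback M.v f

/-- The component of `κ` towards `U`. -/
def Model.toU : pullback M.E.hom (pullback.fst M.v f) ⟶ U.left :=
  M.κ.hom.left ≫ pullback.fst U.hom (pullback.snd M.v f)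

@[reassoc]
theorem Model.toU_hom : M.toU ≫ U.hom = pullback.snd M.E.hom (pullback.fst M.v f) ≫ pullback.snd M.v f := by
  rw [Model.toU, Category.assoc, pullback.condition, ← Category.assoc]
  exact congrArg (· ≫ pullback.snd M.v f) (MorphismProperty.Over.w M.κ.hom)

theorem Model.toU_ext {T : Scheme.{u}} (p q : T ⟶ pullback M.E.hom (pullback.fst M.v f))
    (h1 : p ≫ M.toU = q ≫ M.toU)
    (h2 : p ≫ pullback.snd M.E.hom (pullback.fst M.v f) = q ≫ pullback.snd M.E.hom (pullback.fst M.v f)) :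
    p = q := by
  have h3 : p ≫ M.κ.hom.left = q ≫ M.κ.hom.left := by
    refine pullback.hom_ext ?_ ?_
    · simpa [Model.toU] using h1
    · have := MorphismProperty.Over.w M.κ.hom
      exact ((Category.assoc _ _ _).trans (congrArg (p ≫ ·) this)).trans
        (h2.trans ((congrArg (q ≫ ·) this).symm.trans (Category.assoc _ _ _).symm))
  have h4 := congrArg (· ≫ M.κ.inv.left) h3
  simp only [Category.assoc] at h4
  have h5 : M.κ.hom.left ≫ M.κ.inv.left = 𝟙 _ := congrArg (fun k => k.left) M.κ.hom_inv_id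
  simp only [h5] at h4
  exact (Category.comp_id p).symm.trans (h4.trans (Category.comp_id q))

/-- The comparison map to `V ×_S Z`. -/
def Model.j {T : Scheme.{u}} (x : T ⟶ M.V) (s : T ⟶ S) (hs : x ≫ M.v = s) : pullback s f ⟶ M.X :=
  pullback.lift (pullback.fst s f ≫ x) (pullback.snd s f) (by rw [Category.assoc, hs, pullback.condition])

/-- The map from points of the model to sections of `U`. -/
def Model.toSec {T : Scheme.{u}} (x : T ⟶ M.V) (s : T ⟶ S) (hs : x ≫ M.v = s)
    (e : Desc.Lifts (CategoryTheory.Over.mk M.E.hom) x) : Sec f U s :=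
  ⟨pullback.lift (pullback.fst s f ≫ e.1) (M.j x s hs)
      (by rw [Category.assoc, Model.j, pullback.lift_fst]; exact congrArg (pullback.fst s f ≫ ·) e.2) ≫ M.toU, by
    rw [Category.assoc, M.toU_hom, pullback.lift_snd_assoc, Model.j, pullback.lift_snd]⟩

theorem Model.toSec_bijective {T : Scheme.{u}} (x : T ⟶ M.V) (s : T ⟶ S) (hs : x ≫ M.v = s) :
    Function.Bijective (M.toSec x s hs) := by
  haveI : IsIntegralHom (pullback.fst s f) := MorphismProperty.pullback_fst _ _ inferInstance
  haveI : UniversallyInjective (pullback.fst s f) :=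
    MorphismProperty.pullback_fst (P := @UniversallyInjective) _ _ ‹_›
  haveI : Surjective (pullback.fst s f) := MorphismProperty.pullback_fst (P := @Surjective) _ _ ‹_›
  haveI : Etale M.E.hom := M.E.prop
  have hb := lifts_bijective (pullback.fst s f) M.E.hom x
  constructor
  · intro e e' h
    refine hb.1 (Subtype.ext ?_)
    have := M.toU_ext _ _ (congrArg Subtype.val h) (by simp)
    exact (pullback.lift_fst _ _ _).symm.trans
      ((congrArg (· ≫ pullback.fst M.E.hom (pullback.fst M.v f)) this).trans (pullback.lift_fst _ _ _))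
  · rintro ⟨w, hw⟩
    let p : pullback s f ⟶ pullback M.E.hom (pullback.fst M.v f) :=
      pullback.lift w (M.j x s hs) (by rw [hw, Model.j, pullback.lift_snd]) ≫ M.κ.inv.left
    have hp : p ≫ pullback.snd M.E.hom (pullback.fst M.v f) = M.j x s hs := by
      rw [Category.assoc]
      exact (congrArg (_ ≫ ·) (MorphismProperty.Over.w M.κ.inv)).trans (pullback.lift_snd _ _ _)
    obtain ⟨e, he⟩ := hb.2 ⟨p ≫ pullback.fst M.E.hom (pullback.fst M.v f), by
      rw [Category.assoc, pullback.condition, ← Category.assoc, hp, Model.j, pullback.lift_fst]⟩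
    refine ⟨e, Subtype.ext ?_⟩
    have he' : pullback.fst s f ≫ e.1 = p ≫ pullback.fst M.E.hom (pullback.fst M.v f) := congrArg Subtype.val he
    show pullback.lift _ _ _ ≫ M.toU = w
    have : pullback.lift (pullback.fst s f ≫ e.1) (M.j x s hs)
      (by rw [Category.assoc, Model.j, pullback.lift_fst]; exact congrArg (pullback.fst s f ≫ ·) e.2) = p :=
      pullback.hom_ext ((pullback.lift_fst _ _ _).trans he') ((pullback.lift_snd _ _ _).trans hp.symm)
    rw [this]
    simp only [p, Model.toU, Category.assoc]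
    have h5 : M.κ.inv.left ≫ M.κ.hom.left = 𝟙 _ := congrArg (fun k => k.left) M.κ.inv_hom_id
    rw [reassoc_of% h5]
    exact pullback.lift_fst _ _ _

/-- Points of the model are sections of `U`. -/
def Model.secEquiv {T : Scheme.{u}} (x : T ⟶ M.V) (s : T ⟶ S) (hs : x ≫ M.v = s) :
    Desc.Lifts (CategoryTheory.Over.mk M.E.hom) x ≃ Sec f U s :=
  Equiv.ofBijective _ (M.toSec_bijective x s hs)

theorem Model.toSec_natural {T T' : Scheme.{u}} (g : T' ⟶ T) (x : T ⟶ M.V) (s : T ⟶ S) (hs : x ≫ M.v = s)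
    (x' : T' ⟶ M.V) (s' : T' ⟶ S) (hs' : x' ≫ M.v = s') (hx : g ≫ x = x')
    (e : Desc.Lifts (CategoryTheory.Over.mk M.E.hom) x) (e' : Desc.Lifts (CategoryTheory.Over.mk M.E.hom) x')
    (he : e'.1 = g ≫ e.1) :
    (M.toSec x' s' hs' e').1 = pullback.map s' f s f g (𝟙 Z) (𝟙 S)
      (by rw [Category.comp_id, ← hs', ← hx, Category.assoc, hs]) (by simp) ≫ (M.toSec x s hs e).1 := by
  subst hx
  simp only [Model.toSec]
  rw [← Category.assoc]
  refine congrArg (· ≫ M.toU) (pullback.hom_ext ?_ ?_)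
  · simp [he]
  · rw [Category.assoc, pullback.lift_snd, pullback.lift_snd]
    refine pullback.hom_ext ?_ ?_ <;> simp [Model.j]

/-- The descent datum. -/
def datum : Desc.SchDDFam (fun _ : PUnit.{u + 1} => M.v) where
  obj _ := CategoryTheory.Over.mk M.E.hom
  φ _ _ _ x₀ x₁ h := (M.secEquiv x₀ (x₀ ≫ M.v) rfl).trans (M.secEquiv x₁ (x₀ ≫ M.v) h.symm).symm
  φ_natural T T' g i j x₀ x₁ h y₀ y₁ hy₀ hy₁ h' v v' hv' := by
    let e₁ := ((M.secEquiv x₀ (x₀ ≫ M.v) rfl).trans (M.secEquiv x₁ (x₀ ≫ M.v) h.symm).symm) v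
    let e₁' := ((M.secEquiv y₀ (y₀ ≫ M.v) rfl).trans (M.secEquiv y₁ (y₀ ≫ M.v) h'.symm).symm) v'
    have hg : (⟨g ≫ e₁.1, by rw [Category.assoc, e₁.2, hy₁]⟩ :
        Desc.Lifts (CategoryTheory.Over.mk M.E.hom) y₁) = e₁' := by
      refine (M.secEquiv y₁ (y₀ ≫ M.v) h'.symm).injective ?_
      refine Eq.trans (Subtype.ext ?_) (Equiv.apply_symm_apply _ _).symm
      have k1 := M.toSec_natural g x₁ (x₀ ≫ M.v) h.symm y₁ (y₀ ≫ M.v) h'.symm hy₁ e₁
        ⟨g ≫ e₁.1, by rw [Category.assoc, e₁.2, hy₁]⟩ rfl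
      have k2 := M.toSec_natural g x₀ (x₀ ≫ M.v) rfl y₀ (y₀ ≫ M.v) rfl hy₀ v v' hv'
      refine k1.trans (Eq.trans ?_ k2.symm)
      refine congrArg (_ ≫ ·) (congrArg Subtype.val ?_)
      exact (M.secEquiv x₁ (x₀ ≫ M.v) h.symm).apply_symm_apply _
    exact (congrArg Subtype.val hg).symm
  φ_self T i x v := (M.secEquiv x (x ≫ M.v) rfl).symm_apply_apply v
  φ_comp T i j k x₀ x₁ x₂ h₀₁ h₁₂ v := by
    simp only [Equiv.trans_apply]
    have key : ∀ (s s' : T ⟶ S) (e : s = s') (hs : x₁ ≫ M.v = s) (hs' : x₁ ≫ M.v = s')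
        (ht : x₂ ≫ M.v = s) (ht' : x₂ ≫ M.v = s') (w : Desc.Lifts (CategoryTheory.Over.mk M.E.hom) x₁),
        (M.secEquiv x₂ s ht).symm (M.secEquiv x₁ s hs w) =
          (M.secEquiv x₂ s' ht').symm (M.secEquiv x₁ s' hs' w) := by
      rintro s _ rfl _ _ _ _ _; rfl
    rw [key _ _ h₀₁.symm rfl h₀₁.symm h₁₂.symm (h₁₂.symm.trans h₀₁.symm), Equiv.apply_symm_apply]

variable (Y : CategoryTheory.Over S) (θ : (Desc.toDDFam fun _ : PUnit.{u + 1} => M.v).obj Y ≅ datum M)

/-- The isomorphism of the model and the pullback of a solution. -/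
def compIso : pullback M.v Y.hom ≅ M.E.left where
  hom := (θ.hom.hom PUnit.unit).left
  inv := (θ.inv.hom PUnit.unit).left
  hom_inv_id := congrArg (fun k => (k.hom PUnit.unit).left) θ.hom_inv_id
  inv_hom_id := congrArg (fun k => (k.hom PUnit.unit).left) θ.inv_hom_id

@[reassoc]
theorem compIso_hom_w : (compIso M Y θ).hom ≫ M.E.hom = pullback.fst M.v Y.hom :=
  CategoryTheory.Over.w (θ.hom.hom PUnit.unit)

@[reassoc]
theorem compIso_inv_w : (compIso M Y θ).inv ≫ pullback.fst M.v Y.hom = M.E.hom :=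
  CategoryTheory.Over.w (θ.inv.hom PUnit.unit)

include θ in
theorem etale_of_solution [QuasiCompact M.v] : AlgebraicGeometry.Etale Y.hom := by
  haveI := M.hv
  haveI := M.hsurj
  haveI : Etale M.E.hom := M.E.prop
  have hQ : (@Surjective ⊓ @Flat ⊓ @QuasiCompact : MorphismProperty Scheme.{u}) M.v :=
    ⟨⟨inferInstance, inferInstance⟩, inferInstance⟩
  refine MorphismProperty.of_isPullback_of_descendsAlong (P := @Etale)
    (Q := (@Surjective ⊓ @Flat ⊓ @QuasiCompact : MorphismProperty Scheme.{u}))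
    (IsPullback.of_hasPullback M.v Y.hom) hQ ?_
  rw [← compIso_hom_w M Y θ]
  exact (MorphismProperty.cancel_left_of_respectsIso (P := @Etale) _ _).mpr M.E.prop

/-- The forward component. -/
def fwd : pullback (pullback.snd M.v f) (pullback.snd Y.hom f) ⟶ pullback M.E.hom (pullback.fst M.v f) :=
  pullback.lift (pullback.lift (pullback.fst _ _ ≫ pullback.fst M.v f) (pullback.snd _ _ ≫ pullback.fst Y.hom f)
      (by rw [Category.assoc, pullback.condition (f := M.v), Category.assoc, pullback.condition (f := Y.hom),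
        ← Category.assoc, pullback.condition, Category.assoc]) ≫ (compIso M Y θ).hom)
    (pullback.fst _ _)
    (by rw [Category.assoc, compIso_hom_w, pullback.lift_fst])

/-- The backward component. -/
def bwd : pullback M.E.hom (pullback.fst M.v f) ⟶ pullback (pullback.snd M.v f) (pullback.snd Y.hom f) :=
  pullback.lift (pullback.snd _ _)
    (pullback.lift (pullback.fst _ _ ≫ (compIso M Y θ).inv ≫ pullback.snd _ _)
      (pullback.snd _ _ ≫ pullback.snd M.v f)
      (by
        simp only [Category.assoc]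
        rw [← pullback.condition, compIso_inv_w_assoc, ← Category.assoc,
          pullback.condition, Category.assoc, pullback.condition]))
    (pullback.lift_snd _ _ _).symm

theorem fwd_bwd : fwd M Y θ ≫ bwd M Y θ = 𝟙 _ := by
  refine pullback.hom_ext ?_ ?_
  · simp [fwd, bwd]
  · refine pullback.hom_ext ?_ ?_
    · simp [fwd, bwd]
    · simp [fwd, bwd, pullback.condition]

theorem bwd_fwd : bwd M Y θ ≫ fwd M Y θ = 𝟙 _ := by
  refine pullback.hom_ext ?_ ?_
  · simp only [fwd, Category.assoc, pullback.lift_fst, Category.id_comp]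
    rw [← Category.assoc, ← Iso.eq_comp_inv]
    refine pullback.hom_ext ?_ ?_
    · simp only [bwd, Category.assoc, pullback.lift_fst, pullback.lift_fst_assoc]
      rw [compIso_inv_w, pullback.condition]
    · simp [bwd]
  · simp [fwd, bwd]

/-- The component isomorphism over `V ×_S Z`. -/
def component : CategoryTheory.Over.mk (pullback.fst (pullback.snd M.v f) (pullback.snd Y.hom f)) ≅
    CategoryTheory.Over.mk (pullback.fst (pullback.snd M.v f) U.hom) :=
  CategoryTheory.Over.isoMk
    ({ hom := fwd M Y θ, inv := bwd M Y θ, hom_inv_id := fwd_bwd M Y θ, inv_hom_id := bwd_fwd M Y θ } ≪≫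
      { hom := M.κ.hom.left, inv := M.κ.inv.left,
        hom_inv_id := congrArg (fun k => k.left) M.κ.hom_inv_id,
        inv_hom_id := congrArg (fun k => k.left) M.κ.inv_hom_id } ≪≫
      pullbackSymmetry U.hom (pullback.snd M.v f))
    (by
      show ((fwd M Y θ ≫ M.κ.hom.left ≫ (pullbackSymmetry U.hom (pullback.snd M.v f)).hom)) ≫
        pullback.fst _ _ = _
      simp only [Category.assoc, pullbackSymmetry_hom_comp_fst]
      rw [show M.κ.hom.left ≫ pullback.snd U.hom (pullback.snd M.v f) = pullback.snd _ _ from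
        MorphismProperty.Over.w M.κ.hom]
      simp [fwd])

theorem component_snd : (component M Y θ).hom.left ≫ pullback.snd (pullback.snd M.v f) U.hom =
    fwd M Y θ ≫ M.toU := by
  show (fwd M Y θ ≫ M.κ.hom.left ≫ (pullbackSymmetry U.hom (pullback.snd M.v f)).hom) ≫ pullback.snd _ _ = _
  simp [Model.toU]

theorem lift_toSec {T : Scheme.{u}} (x : T ⟶ M.X) (s : T ⟶ S) (hs : (x ≫ pullback.fst M.v f) ≫ M.v = s)
    (w : 𝟙 T ≫ s = (x ≫ pullback.snd M.v f) ≫ f)
    (e : Desc.Lifts (CategoryTheory.Over.mk M.E.hom) (x ≫ pullback.fst M.v f)) :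
    pullback.lift (𝟙 T) (x ≫ pullback.snd M.v f) w ≫ (M.toSec (x ≫ pullback.fst M.v f) s hs e).1 =
      pullback.lift e.1 x e.2 ≫ M.toU := by
  rw [Model.toSec, ← Category.assoc]
  refine congrArg (· ≫ M.toU) (pullback.hom_ext ?_ ?_)
  · simp
    exact Category.id_comp _
  · rw [Category.assoc, pullback.lift_snd]
    refine Eq.trans ?_ (pullback.lift_snd _ _ _).symm
    refine pullback.hom_ext ?_ ?_ <;> simp [Model.j]
    exact Category.id_comp _

theorem comm_component ⦃T : Scheme.{u}⦄ (x₀ x₁ : T ⟶ M.X)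
    (h : x₀ ≫ pullback.snd M.v f = x₁ ≫ pullback.snd M.v f)
    (v : T ⟶ pullback (pullback.snd M.v f) (pullback.snd Y.hom f))
    (hv : v ≫ pullback.fst _ _ = x₀) (v₁ : T ⟶ pullback (pullback.snd M.v f) (pullback.snd Y.hom f))
    (hv₁ : v₁ ≫ pullback.fst _ _ = x₁) (hsnd : v₁ ≫ pullback.snd _ _ = v ≫ pullback.snd _ _) :
    v₁ ≫ fwd M Y θ ≫ M.toU = v ≫ fwd M Y θ ≫ M.toU := by
  let s : T ⟶ S := (x₀ ≫ pullback.snd M.v f) ≫ f
  have hs₀ : (x₀ ≫ pullback.fst M.v f) ≫ M.v = s := by simp only [s, Category.assoc, pullback.condition]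
  have hs₁ : (x₁ ≫ pullback.fst M.v f) ≫ M.v = s := by
    show _ = (x₀ ≫ pullback.snd M.v f) ≫ f
    rw [h, Category.assoc, Category.assoc, pullback.condition]
  let r : T ⟶ Y.left := v ≫ pullback.snd _ _ ≫ pullback.fst Y.hom f
  have hr : r ≫ Y.hom = s := by
    simp only [r, s, Category.assoc, pullback.condition (f := Y.hom), ← hv, pullback.condition_assoc]
  let c₀ : Desc.Lifts (((Desc.toDDFam fun _ : PUnit.{u + 1} => M.v).obj Y).obj PUnit.unit)
      (x₀ ≫ pullback.fst M.v f) :=
    ⟨pullback.lift (x₀ ≫ pullback.fst M.v f) r (hs₀.trans hr.symm), pullback.lift_fst _ _ _⟩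
  let e₀ : Desc.Lifts (CategoryTheory.Over.mk M.E.hom) (x₀ ≫ pullback.fst M.v f) :=
    ⟨c₀.1 ≫ (compIso M Y θ).hom, by
      rw [Category.assoc]; exact (congrArg (c₀.1 ≫ ·) (compIso_hom_w M Y θ)).trans c₀.2⟩
  let e₁ : Desc.Lifts (CategoryTheory.Over.mk M.E.hom) (x₁ ≫ pullback.fst M.v f) :=
    ⟨pullback.lift (x₁ ≫ pullback.fst M.v f) r (hs₁.trans hr.symm) ≫ (compIso M Y θ).hom, by
      rw [Category.assoc]
      exact (congrArg (_ ≫ ·) (compIso_hom_w M Y θ)).trans (pullback.lift_fst _ _ _)⟩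
  have hφ : (datum M).φ (i := PUnit.unit) (j := PUnit.unit) (x₀ ≫ pullback.fst M.v f)
      (x₁ ≫ pullback.fst M.v f) (hs₀.trans hs₁.symm) e₀ = e₁ := by
    refine Subtype.ext ((θ.hom.comm (x₀ ≫ pullback.fst M.v f) (x₁ ≫ pullback.fst M.v f)
      (hs₀.trans hs₁.symm) c₀ e₀ rfl).trans ?_)
    refine congrArg (· ≫ (compIso M Y θ).hom) ?_
    refine pullback.hom_ext ?_ ?_
    · simp [Desc.toDDFam, Desc.canonicalDDFam]
    · simp [Desc.toDDFam, Desc.canonicalDDFam, c₀]
  have key : ∀ (s' : T ⟶ S) (e : s' = s) (hi : (x₀ ≫ pullback.fst M.v f) ≫ M.v = s')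
      (hj : (x₁ ≫ pullback.fst M.v f) ≫ M.v = s'),
      M.secEquiv _ s' hj ((M.secEquiv _ s' hj).symm (M.secEquiv _ s' hi e₀)) = M.secEquiv _ s' hi e₀ →
      (M.secEquiv _ s' hj).symm (M.secEquiv _ s' hi e₀) = e₁ →
      (M.toSec _ s hs₁ e₁).1 = (M.toSec _ s hs₀ e₀).1 := by
    rintro _ rfl hi hj ha hb
    rw [hb] at ha
    exact congrArg Subtype.val ha
  have hsec := key ((x₀ ≫ pullback.fst M.v f) ≫ M.v) hs₀ rfl (hs₁.trans hs₀.symm) (Equiv.apply_symm_apply _ _) hφ
  have hl₀ : v ≫ fwd M Y θ = pullback.lift e₀.1 x₀ e₀.2 := by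
    refine pullback.hom_ext ?_ ?_
    · simp only [fwd, Category.assoc, pullback.lift_fst, e₀]
      refine Eq.trans ?_ (pullback.lift_fst _ _ _).symm
      rw [← Category.assoc]
      refine congrArg (· ≫ (compIso M Y θ).hom) (pullback.hom_ext ?_ ?_)
      · simp [c₀, ← hv]
      · simp [c₀, r]
    · simp [fwd, hv]
  have hl₁ : v₁ ≫ fwd M Y θ = pullback.lift e₁.1 x₁ e₁.2 := by
    refine pullback.hom_ext ?_ ?_
    · simp only [fwd, Category.assoc, pullback.lift_fst, e₁]
      refine Eq.trans ?_ (pullback.lift_fst _ _ _).symm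
      rw [← Category.assoc]
      refine congrArg (· ≫ (compIso M Y θ).hom) (pullback.hom_ext ?_ ?_)
      · simp [← hv₁]
      · simp [r, reassoc_of% hsnd]
    · simp [fwd, hv₁]
  rw [← Category.assoc, hl₁, ← Category.assoc, hl₀,
    ← lift_toSec M x₁ s hs₁ (by rw [Category.id_comp]; exact congrArg (· ≫ f) h) e₁,
    ← lift_toSec M x₀ s hs₀ (by simp [s]) e₀, hsec]
  exact congrArg (· ≫ _) (pullback.hom_ext (by simp) (by simp [h]))

include θ in
theorem nonempty_restrict_iso :
    Nonempty (CategoryTheory.Over.mk (pullback.snd Y.hom f) ≅ CategoryTheory.Over.mk U.hom) := by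
  haveI := M.hv
  haveI := M.hsurj
  let a : ∀ _ : PUnit.{u + 1}, M.X ⟶ Z := fun _ => pullback.snd M.v f
  haveI : Surjective (pullback.snd M.v f) := MorphismProperty.pullback_snd (P := @Surjective) _ _ M.hsurj
  have hcov : DescLib.factorSieve a (𝟙 Z) ∈ Scheme.fpqcTopology Z := by
    refine DescLib.factorSieve_mem_of_cover _ (ofArrows_mem _ (fun _ => inferInstanceAs (Etale (pullback.snd M.v f)))
      fun z => ?_) _
    obtain ⟨t, ht⟩ := (pullback.snd M.v f).surjective z
    exact ⟨PUnit.unit, t, ht⟩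
  obtain ⟨h1, h2⟩ := DescLib.toDDFam_full_faithful hcov
  let D := Desc.toDDFam a
  let UY := CategoryTheory.Over.mk (pullback.snd Y.hom f)
  let UU := CategoryTheory.Over.mk U.hom
  let hom : D.obj UY ⟶ D.obj UU :=
    ⟨fun _ => (component M Y θ).hom, fun T i j x₀ x₁ h v w hw => by
      refine pullback.hom_ext ?_ ?_
      · refine Eq.trans ((((D.obj UU).φ x₀ x₁ h w).2)) ?_
        rw [Category.assoc]
        exact ((congrArg (_ ≫ ·) (CategoryTheory.Over.w (component M Y θ).hom)).trans
          ((D.obj UY).φ x₀ x₁ h v).2).symm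
      · refine (pullback.lift_snd _ _ _).trans ?_
        rw [hw, Category.assoc]
        refine (congrArg (v.1 ≫ ·) (component_snd M Y θ)).trans ?_
        rw [Category.assoc]
        refine Eq.trans ?_ (congrArg (_ ≫ ·) (component_snd M Y θ)).symm
        exact (comm_component M Y θ x₀ x₁ h v.1 v.2 _ ((D.obj UY).φ x₀ x₁ h v).2
          (pullback.lift_snd _ _ _)).symm⟩
  let inv : D.obj UU ⟶ D.obj UY :=
    ⟨fun _ => (component M Y θ).inv, fun T i j x₀ x₁ h v w hw => by
      let v' : Desc.Lifts ((D.obj UY).obj i) x₀ := w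
      have hv' : v.1 = v'.1 ≫ (component M Y θ).hom.left := by
        show v.1 = w.1 ≫ _
        rw [hw, Category.assoc, ← CategoryTheory.Over.comp_left, Iso.inv_hom_id]
        exact (Category.comp_id _).symm
      rw [hom.comm x₀ x₁ h v' v hv', Category.assoc]
      show _ = _ ≫ (component M Y θ).hom.left ≫ (component M Y θ).inv.left
      rw [← CategoryTheory.Over.comp_left, Iso.hom_inv_id]
      exact (Category.comp_id _).symm⟩
  let I : D.obj UY ≅ D.obj UU :=
    ⟨hom, inv, Desc.SchDDFam.hom_ext (funext fun _ => (component M Y θ).hom_inv_id),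
      Desc.SchDDFam.hom_ext (funext fun _ => (component M Y θ).inv_hom_id)⟩
  haveI : D.Full := h1
  haveI : D.Faithful := h2
  exact ⟨D.preimageIso I⟩

/-- An étale scheme which comes from the base after an étale covering comes from the base. -/
theorem essImage_of_model [QuasiCompact M.v] (hE : MoreMor.IsIndQuasiAffineHom M.E.hom) :
    (EtCoh.bc f).essImage U := by
  haveI := M.hv
  haveI := M.hsurj
  obtain ⟨Y, ⟨θ⟩⟩ := DescLib.IndQA.isEffective_of_indQA (fun _ : PUnit.{u + 1} => M.v)
    (ofArrows_mem _ (fun _ => M.hv) fun s => ⟨PUnit.unit, M.v.surjective s⟩) (datum M) (fun _ => hE)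
  haveI := etale_of_solution M Y θ
  obtain ⟨e⟩ := nonempty_restrict_iso M Y θ
  exact ⟨Scheme.Etale.mk Y.hom,
    ⟨MorphismProperty.Over.isoMk ((CategoryTheory.Over.forget Z).mapIso e) (CategoryTheory.Over.w e.hom)⟩⟩

end Groth.Agent.EtTopInvFull
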